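import Mathlib.GroupTheory.SpecificGroups.Cyclic
import Mathlib.Data.Nat.Prime.Basic

/-!
# Divisible torsion groups acting on cyclic groups

Let `W` be a commutative `l`-divisible `l`-power torsion group.
* `exists_pow_eq`: `W` is divisible;
* `hom_finite_eq_one`: homomorphisms from `W` to a finite group are trivial;
* `hom_cyclic_eq_one`: homomorphisms from `W` to a cyclic group are trivial;
* `crossed`: let `N ≤ P` be a cyclic subgroup of a commutative group on which `W` acts, stable under `W`, and `x : P` with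
  `w • x / x ∈ N` for all `w`. Then `w • x = x` for all `w`.
-/

set_option autoImplicit false

namespace Groth.Agent.Sga7.H783.CycAct

variable {W : Type*} [CommGroup W] {l : ℕ}

/-- An `l`-divisible `l`-power torsion group is divisible. -/
theorem exists_pow_eq (hl : l.Prime) (hdiv : ∀ w : W, ∃ w' : W, w' ^ l = w) (htor : ∀ w : W, ∃ n : ℕ, w ^ l ^ n = 1)
    {N : ℕ} (hN : N ≠ 0) (w : W) : ∃ w' : W, w' ^ N = w := by
  obtain ⟨a, m, hm, rfl⟩ := Nat.exists_eq_pow_mul_and_not_dvd hN l hl.ne_one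
  have h1 : ∀ (a : ℕ) (w : W), ∃ w' : W, w' ^ l ^ a = w := by
    intro a
    induction a with
    | zero => intro w; exact ⟨w, by simp⟩
    | succ a ih =>
      intro w
      obtain ⟨w1, hw1⟩ := hdiv w
      obtain ⟨w2, hw2⟩ := ih w1
      exact ⟨w2, by rw [pow_succ, pow_mul, hw2, hw1]⟩
  obtain ⟨w1, hw1⟩ := h1 a w
  obtain ⟨n, hn⟩ := htor w1
  have hcop : Nat.Coprime m (l ^ n) := ((Nat.Prime.coprime_iff_not_dvd hl).2 hm).symm.pow_right n
  obtain ⟨w2, hw2⟩ : ∃ w2 : W, w2 ^ m = w1 := by
    have h2 := Nat.gcd_eq_gcd_ab m (l ^ n)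
    rw [Nat.Coprime] at hcop
    rw [hcop] at h2
    refine ⟨w1 ^ (Nat.gcdA m (l ^ n)), ?_⟩
    rw [← zpow_natCast, ← zpow_mul]
    have h3 : w1 ^ ((m : ℤ) * Nat.gcdA m (l ^ n) + ((l ^ n : ℕ) : ℤ) * Nat.gcdB m (l ^ n)) = w1 ^ (1 : ℤ) := by
      rw [← h2]; simp
    rw [zpow_add, zpow_mul w1 ((l ^ n : ℕ) : ℤ), zpow_natCast w1 (l ^ n), hn, one_zpow, mul_one, zpow_one] at h3
    rw [mul_comm]
    exact h3
  exact ⟨w2, by rw [mul_comm, pow_mul, hw2, hw1]⟩

theorem hom_finite_eq_one (hl : l.Prime) (hdiv : ∀ w : W, ∃ w' : W, w' ^ l = w)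
    (htor : ∀ w : W, ∃ n : ℕ, w ^ l ^ n = 1) {F : Type*} [Group F] [Finite F] (φ : W →* F) (w : W) : φ w = 1 := by
  obtain ⟨w', rfl⟩ := exists_pow_eq hl hdiv htor (N := Nat.card F) Nat.card_pos.ne' w
  rw [map_pow, pow_card_eq_one']

theorem hom_cyclic_eq_one (hl : l.Prime) (hdiv : ∀ w : W, ∃ w' : W, w' ^ l = w)
    (htor : ∀ w : W, ∃ n : ℕ, w ^ l ^ n = 1) {F : Type*} [Group F] [IsCyclic F] (φ : W →* F) (w : W) :
    φ w = 1 := by
  have e := (zmodCyclicMulEquiv (G := F) inferInstance).symm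
  generalize Nat.card F = c at e
  obtain _ | c := c
  · obtain ⟨n, hn⟩ := htor w
    have h1 : (e (φ w)) ^ l ^ n = 1 := by rw [← map_pow, ← map_pow, hn, map_one, map_one]
    have h2 : (l ^ n) • (Multiplicative.toAdd (e (φ w)) : ℤ) = 0 := congrArg Multiplicative.toAdd h1
    have h3 : (Multiplicative.toAdd (e (φ w)) : ℤ) = 0 := by
      rcases smul_eq_zero.1 h2 with h | h
      · exact absurd h (pow_ne_zero _ hl.ne_zero)
      · exact h
    have h4 : e (φ w) = 1 := h3
    exact e.injective (h4.trans (map_one e).symm)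
  · have : Finite F := Finite.of_equiv _ e.symm.toEquiv
    exact hom_finite_eq_one hl hdiv htor φ w

theorem finite_units_zmod (n : ℕ) : Finite (ZMod n)ˣ := by
  obtain _ | n := n
  · exact inferInstanceAs (Finite ℤˣ)
  · infer_instance

/-- The automorphism group of a cyclic group is finite. -/
theorem finite_mulAut {N : Type*} [Group N] [IsCyclic N] : Finite (MulAut N) := by
  have := finite_units_zmod (Nat.card N)
  exact Finite.of_equiv _ (IsCyclic.mulAutMulEquiv N).symm.toEquiv

/-- The key lemma. -/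
theorem crossed (hl : l.Prime) (hdiv : ∀ w : W, ∃ w' : W, w' ^ l = w)
    (htor : ∀ w : W, ∃ n : ℕ, w ^ l ^ n = 1) {P : Type*} [CommGroup P] (act : W →* MulAut P) (N : Subgroup P)
    [IsCyclic N] (hN : ∀ w, ∀ n ∈ N, act w n ∈ N) (x : P) (hx : ∀ w, act w x * x⁻¹ ∈ N) (w : W) : act w x = x := by
  have hinv : ∀ (w : W) (n : P), act w⁻¹ (act w n) = n := by
    intro w n
    rw [← MulAut.mul_apply, ← map_mul, inv_mul_cancel, map_one, MulAut.one_apply]
  have hinv' : ∀ (w : W) (n : P), act w (act w⁻¹ n) = n := by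
    intro w n
    rw [← MulAut.mul_apply, ← map_mul, mul_inv_cancel, map_one, MulAut.one_apply]
  let ψ : W →* MulAut N :=
    { toFun := fun w =>
        { toFun := fun n => ⟨act w n, hN w n n.2⟩
          invFun := fun n => ⟨act w⁻¹ n, hN w⁻¹ n n.2⟩
          left_inv := fun n => Subtype.ext (hinv w n)
          right_inv := fun n => Subtype.ext (hinv' w n)
          map_mul' := fun a b => Subtype.ext (map_mul (act w) _ _) }
      map_one' := by
        ext n
        change act 1 (n : P) = n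
        rw [map_one, MulAut.one_apply]
      map_mul' := fun a b => by
        ext n
        change act (a * b) (n : P) = act a (act b n)
        rw [map_mul, MulAut.mul_apply] }
  have hfin := finite_mulAut (N := N)
  have htriv : ∀ (w : W) (n : P), n ∈ N → act w n = n := by
    intro w n hn
    have h1 : ψ w = 1 := hom_finite_eq_one hl hdiv htor ψ w
    have h2 : ψ w ⟨n, hn⟩ = ⟨n, hn⟩ := by rw [h1]; rfl
    exact congrArg Subtype.val h2
  let δ : W →* N :=
    { toFun := fun w => ⟨act w x * x⁻¹, hx w⟩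
      map_one' := by
        apply Subtype.ext
        change act 1 x * x⁻¹ = 1
        rw [map_one, MulAut.one_apply, mul_inv_cancel]
      map_mul' := fun a b => by
        apply Subtype.ext
        change act (a * b) x * x⁻¹ = (act a x * x⁻¹) * (act b x * x⁻¹)
        have h1 : act a (act b x * x⁻¹) = act b x * x⁻¹ := htriv a _ (hx b)
        rw [map_mul (act a), map_inv] at h1
        rw [map_mul, MulAut.mul_apply, ← h1]
        rw [← mul_assoc, mul_comm (act a x * x⁻¹) (act a (act b x)), mul_assoc, mul_assoc, mul_comm x⁻¹,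
          ← mul_assoc (act a x), mul_inv_cancel, one_mul] }
  have h1 : δ w = 1 := hom_cyclic_eq_one hl hdiv htor δ w
  have h2 : act w x * x⁻¹ = 1 := congrArg Subtype.val h1
  exact mul_inv_eq_one.1 h2

end Groth.Agent.Sga7.H783.CycAct
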