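import Groth.Agent.Pic13.H964.K1

/-!
# Additive cocycles for faithfully flat algebras are coboundaries

`R → R'` faithfully flat, `u ∈ R' ⊗ R'` with `p₁₂ u + p₂₃ u = p₁₃ u`. Then `m ⊗ 1 = u + 1 ⊗ m` for some `m`.
-/

set_option autoImplicit false

open TensorProduct

namespace Groth.Agent.Sga7.H783.AddCob

open Groth.Agent.Pic13.H964.K1

variable {R R' : Type*} [CommRing R] [CommRing R'] [Algebra R R']

/-- `m ↦ m ⊗ 1 - 1 ⊗ m` -/
noncomputable def d0 (R R' : Type*) [CommRing R] [CommRing R'] [Algebra R R'] : R' →ₗ[R] R' ⊗[R] R' :=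
  (Algebra.TensorProduct.includeLeft (R := R) (S := R) (A := R') (B := R')).toLinearMap -
    (Algebra.TensorProduct.includeRight (R := R) (A := R') (B := R')).toLinearMap

/-- `p₁₂ + p₂₃ - p₁₃` -/
noncomputable def d1 (R R' : Type*) [CommRing R] [CommRing R'] [Algebra R R'] :
    R' ⊗[R] R' →ₗ[R] R' ⊗[R] (R' ⊗[R] R') :=
  (p12 R R').toLinearMap + (p23 R R').toLinearMap - (p13 R R').toLinearMap

lemma d1_tmul (a b : R') : d1 R R' (a ⊗ₜ b) = a ⊗ₜ (b ⊗ₜ 1) + 1 ⊗ₜ (a ⊗ₜ b) - a ⊗ₜ (1 ⊗ₜ b) := by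
  simp [d1, p12, p13, p23]

lemma d0_apply (m : R') : d0 R R' m = m ⊗ₜ 1 - 1 ⊗ₜ m := by
  simp [d0]

/-- the homotopy `a ⊗ (b ⊗ x) ↦ a b ⊗ x` -/
noncomputable def hmt (R R' : Type*) [CommRing R] [CommRing R'] [Algebra R R'] (X : Type*) [AddCommGroup X] [Module R X] :
    R' ⊗[R] (R' ⊗[R] X) →ₗ[R] R' ⊗[R] X :=
  (LinearMap.rTensor X (LinearMap.mul' R R')) ∘ₗ (TensorProduct.assoc R R' R' X).symm.toLinearMap

lemma hmt_tmul (X : Type*) [AddCommGroup X] [Module R X] (a b : R') (x : X) :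
    hmt R R' X (a ⊗ₜ (b ⊗ₜ x)) = (a * b) ⊗ₜ x := by
  simp [hmt]

lemma homotopy (z : R' ⊗[R] (R' ⊗[R] R')) :
    hmt R R' (R' ⊗[R] R') (LinearMap.lTensor R' (d1 R R') z) - LinearMap.lTensor R' (d0 R R') (hmt R R' R' z) = z := by
  have key : (hmt R R' (R' ⊗[R] R')) ∘ₗ (LinearMap.lTensor R' (d1 R R')) -
      (LinearMap.lTensor R' (d0 R R')) ∘ₗ (hmt R R' R') = LinearMap.id := by
    refine TensorProduct.ext' fun a w => ?_
    induction w using TensorProduct.induction_on with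
    | zero => simp
    | add x y hx hy => rw [TensorProduct.tmul_add, map_add, map_add, hx, hy]
    | tmul b c =>
      simp only [LinearMap.sub_apply, LinearMap.comp_apply, LinearMap.lTensor_tmul, hmt_tmul, d1_tmul, d0_apply,
        TensorProduct.tmul_add, TensorProduct.tmul_sub, map_add, map_sub, mul_one, LinearMap.id_apply]
      abel
  exact LinearMap.congr_fun key z

/-- The Amitsur complex is exact in degree one. -/
theorem exact_d [Module.FaithfullyFlat R R'] : Function.Exact (d0 R R') (d1 R R') := by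
  rw [← Module.FaithfullyFlat.lTensor_exact_iff_exact R R']
  intro z
  constructor
  · intro hz
    have h1 := homotopy z
    rw [hz, map_zero, zero_sub] at h1
    exact ⟨-(hmt R R' R' z), by rw [map_neg]; exact h1⟩
  · rintro ⟨w, rfl⟩
    have key : (LinearMap.lTensor R' (d1 R R')) ∘ₗ (LinearMap.lTensor R' (d0 R R')) = 0 := by
      refine TensorProduct.ext' fun a w => ?_
      simp only [LinearMap.comp_apply, LinearMap.lTensor_tmul, d0_apply, map_sub, d1_tmul, LinearMap.zero_apply]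
      rw [← TensorProduct.tmul_zero (R := R) (N := R' ⊗[R] (R' ⊗[R] R')) a]
      congr 1
      abel
    exact LinearMap.congr_fun key w

/-- **Additive cocycles are coboundaries.** -/
theorem exists_add [Module.FaithfullyFlat R R'] (u : R' ⊗[R] R')
    (hu : p12 R R' u + p23 R R' u = p13 R R' u) : ∃ m : R', m ⊗ₜ[R] (1 : R') = u + 1 ⊗ₜ m := by
  obtain ⟨m, hm⟩ := (exact_d (R := R) (R' := R') u).1 (by
    change p12 R R' u + p23 R R' u - p13 R R' u = 0
    rw [hu, sub_self])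
  refine ⟨m, ?_⟩
  rw [← hm, d0_apply, sub_add_cancel]

end Groth.Agent.Sga7.H783.AddCob
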