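import Groth.Agent.Pic13.H964.K2
import Groth.Agent.Sga7.H783.AddCob

/-!
# Additive descent of functions along flat affine surjective morphisms

`exists_add_coboundary` : an additive cocycle on `X' ×_X X'` is, over every affine open of `X`, a coboundary.
-/

set_option autoImplicit false
universe u

open CategoryTheory CategoryTheory.Limits AlgebraicGeometry TopologicalSpace
open scoped TensorProduct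

namespace Groth.Agent.Sga7.H783.AddCobSch

open Groth.Agent.Fdesc Groth.Agent.Fdesc.LocGen Groth.Agent.Picfga.LineFam Groth.Agent.Picfga.LineHom
  Groth.Agent.Picfga.LineDescent Groth.Agent.Pic13.H964 Groth.Agent.Pic13.H964.K2

variable {X X' X'' : Scheme.{u}} {π : X' ⟶ X} {p₁ p₂ : X'' ⟶ X'}

/-- Additive cocycles are coboundaries over affine opens. -/
theorem exists_add_coboundary {X₃ : Scheme.{u}} {q₁ : X₃ ⟶ X'} {q₁₂ q₂₃ q₁₃ : X₃ ⟶ X''}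
    (H : IsPullback p₁ p₂ π π) (H₃ : IsPullback q₁ q₂₃ π (p₁ ≫ π))
    (h₁₂ : q₁₂ ≫ p₁ = q₁) (h₁₂' : q₁₂ ≫ p₂ = q₂₃ ≫ p₁) (h₁₃ : q₁₃ ≫ p₁ = q₁)
    (h₁₃' : q₁₃ ≫ p₂ = q₂₃ ≫ p₂)
    [Flat π] [Surjective π] [IsAffineHom π] {W : X.Opens} (hW : IsAffineOpen W)
    (u : Γ(X'', p₁ ⁻¹ᵁ π ⁻¹ᵁ W))
    (huc : ∀ (N : X₃.Opens) (h : N ≤ q₁ ⁻¹ᵁ π ⁻¹ᵁ W),
      fn q₁₂ (h.trans (le_of_eq (by rw [← h₁₂, Scheme.Hom.comp_preimage]))) u +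
      fn q₂₃ (h.trans (le_of_eq (by
        rw [← Scheme.Hom.comp_preimage, H₃.w, Scheme.Hom.comp_preimage, Scheme.Hom.comp_preimage]))) u =
      fn q₁₃ (h.trans (le_of_eq (by rw [← h₁₃, Scheme.Hom.comp_preimage]))) u) :
    ∃ (m : Γ(X', π ⁻¹ᵁ W)), ∀ (N : X''.Opens) (h : N ≤ p₁ ⁻¹ᵁ π ⁻¹ᵁ W),
      fn p₁ h m = ores h u +
        fn p₂ (h.trans (le_of_eq (by rw [← Scheme.Hom.comp_preimage, ← Scheme.Hom.comp_preimage, H.w]))) m := by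
  have hW' : IsAffineOpen (π ⁻¹ᵁ W) := hW.preimage π
  have hff := faithfullyFlat_fn π hW
  let := (fn π (le_refl (π ⁻¹ᵁ W))).toAlgebra
  have hp₁ : IsAffineHom p₁ := MorphismProperty.of_isPullback H.flip ‹_›
  have hW'' : IsAffineOpen (p₁ ⁻¹ᵁ π ⁻¹ᵁ W) := hW'.preimage p₁
  have heq : p₁ ⁻¹ᵁ π ⁻¹ᵁ W = p₂ ⁻¹ᵁ π ⁻¹ᵁ W := by
    rw [← Scheme.Hom.comp_preimage, ← Scheme.Hom.comp_preimage, H.w]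
  obtain ⟨e, he⟩ := exists_sec_equiv H hW hW' hW' le_rfl le_rfl
    (N := p₁ ⁻¹ᵁ π ⁻¹ᵁ W) (by rw [← heq, inf_idem])
  let i2 : Algebra Γ(X, W) Γ(X'', p₁ ⁻¹ᵁ π ⁻¹ᵁ W) :=
    (fn (p₁ ≫ π) (le_refl (p₁ ⁻¹ᵁ π ⁻¹ᵁ W))).toAlgebra
  obtain ⟨e₃, he₃⟩ := exists_sec_equiv H₃ hW hW' hW'' le_rfl le_rfl
    (N := q₁ ⁻¹ᵁ π ⁻¹ᵁ W) (by
      have : q₂₃ ⁻¹ᵁ p₁ ⁻¹ᵁ π ⁻¹ᵁ W = q₁ ⁻¹ᵁ π ⁻¹ᵁ W := by
        rw [← Scheme.Hom.comp_preimage, ← Scheme.Hom.comp_preimage, ← Scheme.Hom.comp_preimage,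
          Category.assoc, ← H₃.w]
      rw [this, inf_idem])
  -- `e` as an algebra isomorphism
  let eA : (Γ(X', π ⁻¹ᵁ W) ⊗[Γ(X, W)] Γ(X', π ⁻¹ᵁ W)) ≃ₐ[Γ(X, W)] Γ(X'', p₁ ⁻¹ᵁ π ⁻¹ᵁ W) :=
    AlgEquiv.ofRingEquiv (f := e) (fun r => by
      change e ((algebraMap Γ(X, W) Γ(X', π ⁻¹ᵁ W) r) ⊗ₜ 1) = fn (p₁ ≫ π) _ r
      rw [he, map_one, mul_one]
      exact fn_comp π p₁ _ _ r)
  let ψ : Γ(X', π ⁻¹ᵁ W) ⊗[Γ(X, W)] (Γ(X', π ⁻¹ᵁ W) ⊗[Γ(X, W)] Γ(X', π ⁻¹ᵁ W)) ≃+*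
      Γ(X₃, q₁ ⁻¹ᵁ π ⁻¹ᵁ W) :=
    (Algebra.TensorProduct.congr (AlgEquiv.refl (R := Γ(X, W)) (A₁ := Γ(X', π ⁻¹ᵁ W))) eA).toRingEquiv.trans e₃
  have hψ : ∀ (a : Γ(X', π ⁻¹ᵁ W)) (x : Γ(X', π ⁻¹ᵁ W) ⊗[Γ(X, W)] Γ(X', π ⁻¹ᵁ W)),
      ψ (a ⊗ₜ x) = fn q₁ le_rfl a * fn q₂₃ (le_of_eq (by
        rw [← Scheme.Hom.comp_preimage, H₃.w, Scheme.Hom.comp_preimage, Scheme.Hom.comp_preimage]))
        (e x) := by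
    intro a x
    exact he₃ a (e x)
  have l12 : q₁ ⁻¹ᵁ π ⁻¹ᵁ W ≤ q₁₂ ⁻¹ᵁ p₁ ⁻¹ᵁ π ⁻¹ᵁ W := le_of_eq (by rw [← h₁₂, Scheme.Hom.comp_preimage])
  have l13 : q₁ ⁻¹ᵁ π ⁻¹ᵁ W ≤ q₁₃ ⁻¹ᵁ p₁ ⁻¹ᵁ π ⁻¹ᵁ W := le_of_eq (by rw [← h₁₃, Scheme.Hom.comp_preimage])
  have l23 : q₁ ⁻¹ᵁ π ⁻¹ᵁ W ≤ q₂₃ ⁻¹ᵁ p₁ ⁻¹ᵁ π ⁻¹ᵁ W := le_of_eq (by
        rw [← Scheme.Hom.comp_preimage, H₃.w, Scheme.Hom.comp_preimage, Scheme.Hom.comp_preimage])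
  have c12 : ∀ x : Γ(X', π ⁻¹ᵁ W) ⊗[Γ(X, W)] Γ(X', π ⁻¹ᵁ W),
      ψ (K1.p12 Γ(X, W) Γ(X', π ⁻¹ᵁ W) x) = fn q₁₂ l12 (e x) := by
    intro x
    induction x using TensorProduct.induction_on with
    | zero => simp
    | add x y hx hy => simp only [map_add, hx, hy]
    | tmul a b =>
      have : K1.p12 Γ(X, W) Γ(X', π ⁻¹ᵁ W) (a ⊗ₜ b) = a ⊗ₜ (b ⊗ₜ 1) := by simp [K1.p12]
      rw [this, hψ, he, he, map_one, mul_one, map_mul, fn_comp, fn_comp, fn_comp, fn_congr h₁₂, fn_congr h₁₂']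
  have c13 : ∀ x : Γ(X', π ⁻¹ᵁ W) ⊗[Γ(X, W)] Γ(X', π ⁻¹ᵁ W),
      ψ (K1.p13 Γ(X, W) Γ(X', π ⁻¹ᵁ W) x) = fn q₁₃ l13 (e x) := by
    intro x
    induction x using TensorProduct.induction_on with
    | zero => simp
    | add x y hx hy => simp only [map_add, hx, hy]
    | tmul a b =>
      have : K1.p13 Γ(X, W) Γ(X', π ⁻¹ᵁ W) (a ⊗ₜ b) = a ⊗ₜ (1 ⊗ₜ b) := by simp [K1.p13]
      rw [this, hψ, he, he, map_one, one_mul, map_mul, fn_comp, fn_comp, fn_comp, fn_congr h₁₃, fn_congr h₁₃']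
  have c23 : ∀ x : Γ(X', π ⁻¹ᵁ W) ⊗[Γ(X, W)] Γ(X', π ⁻¹ᵁ W),
      ψ (K1.p23 Γ(X, W) Γ(X', π ⁻¹ᵁ W) x) = fn q₂₃ l23 (e x) := by
    intro x
    have : K1.p23 Γ(X, W) Γ(X', π ⁻¹ᵁ W) x = 1 ⊗ₜ x := rfl
    rw [this, hψ, map_one, one_mul]
  obtain ⟨v, hv⟩ := e.surjective u
  have hvc : K1.p12 Γ(X, W) Γ(X', π ⁻¹ᵁ W) v + K1.p23 Γ(X, W) Γ(X', π ⁻¹ᵁ W) v =
      K1.p13 Γ(X, W) Γ(X', π ⁻¹ᵁ W) v := by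
    apply ψ.injective
    rw [map_add, c12, c13, c23, hv]
    exact huc (q₁ ⁻¹ᵁ π ⁻¹ᵁ W) le_rfl
  obtain ⟨m, hm⟩ := AddCob.exists_add v hvc
  refine ⟨m, fun N h => ?_⟩
  have h1 := congrArg e hm
  rw [he, map_add, he, map_one, mul_one, map_one, one_mul, hv] at h1
  have h2 := congrArg (ores h) h1
  rw [map_add, ores_fn, ores_fn] at h2
  exact h2

end Groth.Agent.Sga7.H783.AddCobSch
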