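import Groth.Agent.Sga7.H783.AddCobSch
import Groth.Agent.Etbase.FpqcDescent
import Groth.Prelude.Def_AlgGrp
import Mathlib.AlgebraicGeometry.Sites.Fpqc
import Mathlib.AlgebraicGeometry.Morphisms.Descent

/-!
# The torsor `Y ⟶ Y / C`

`i : C ⟶ Y`, `q : Y ⟶ Y1` homomorphisms of group schemes over `S` with `C` the kernel of `q`.

* `isPullback_sec`: over a local section `s : U ⟶ Y` of `q` one has `U ⊗ C ≅ q⁻¹ U`;
* `exists_sec_of_invariant`: descent of a section.
-/

set_option autoImplicit false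
universe u

open CategoryTheory MonoidalCategory CartesianMonoidalCategory MonObj GrpObj AlgebraicGeometry Limits

namespace Groth.Agent.Sga7.H783.Tors

section Cat

variable {D : Type*} [Category D] [CartesianMonoidalCategory D] {C Y Y1 : D} [GrpObj C] [GrpObj Y] [GrpObj Y1]
  (i : C ⟶ Y) [IsMonHom i] (q : Y ⟶ Y1) [IsMonHom q]

/-- the action of the subgroup -/
def act : Y ⊗ C ⟶ Y := fst Y C * (snd Y C ≫ i)

/-- `(y, c, d) ↦ (y c, d)` -/
def q23 : (Y ⊗ C) ⊗ C ⟶ Y ⊗ C := lift (fst _ _ ≫ act i) (snd _ _)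

variable (C Y) in
/-- `(y, c, d) ↦ (y, c d)` -/
def q13 : (Y ⊗ C) ⊗ C ⟶ Y ⊗ C := lift (fst _ _ ≫ fst _ _) ((fst _ _ ≫ snd _ _) * snd _ _)

variable {i q}

omit [GrpObj C] [IsMonHom i] in
lemma lift_act {T : D} (y : T ⟶ Y) (c : T ⟶ C) : lift y c ≫ act i = y * (c ≫ i) := by
  rw [act, comp_mul, lift_fst, lift_snd_assoc]

omit [GrpObj C] [IsMonHom i] in
lemma comp_act {T : D} (z : T ⟶ Y ⊗ C) : z ≫ act i = (z ≫ fst _ _) * (z ≫ snd _ _ ≫ i) := by
  rw [act, comp_mul]

omit [GrpObj C] [IsMonHom i] in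
/-- **The torsor over a section.** -/
theorem isPullback_sec (hk : IsPullback i (toUnit C) q η[Y1]) {U : D} (u : U ⟶ Y1) (s : U ⟶ Y) (hs : s ≫ q = u) :
    IsPullback ((fst U C ≫ s) * (snd U C ≫ i)) (fst U C) q u := by
  have hiq : ∀ {T : D} (c : T ⟶ C), c ≫ i ≫ q = 1 := by
    intro T c
    rw [hk.w, Hom.one_def, ← Category.assoc, comp_toUnit]
  refine ⟨⟨?_⟩, ⟨PullbackCone.IsLimit.mk _ (fun t => lift t.snd
    (hk.lift ((t.snd ≫ s)⁻¹ * t.fst) (toUnit _) ?_)) ?_ ?_ ?_⟩⟩
  · rw [MonObj.mul_comp, Category.assoc, Category.assoc, hs, hiq, _root_.mul_one]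
  · rw [MonObj.mul_comp, GrpObj.inv_comp, Category.assoc, hs, t.condition, inv_mul_cancel, Hom.one_def]
  · intro t
    rw [comp_mul, lift_fst_assoc, lift_snd_assoc, hk.lift_fst, mul_inv_cancel_left]
  · intro t
    rw [lift_fst]
  · intro t m hm1 hm2
    ext1
    · rw [lift_fst, hm2]
    · rw [lift_snd]
      apply hk.hom_ext
      · rw [hk.lift_fst, ← hm1, ← hm2, comp_mul]
        simp only [Category.assoc, inv_mul_cancel_left]
      · exact toUnit_unique _ _

omit [GrpObj C] [IsMonHom i] in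
/-- `Y ⊗ C` is the fibre product `Y ×_{Y1} Y`. -/
theorem isPullback_act (hk : IsPullback i (toUnit C) q η[Y1]) : IsPullback (fst Y C) (act i) q q := by
  have h := isPullback_sec hk q (𝟙 Y) (Category.id_comp q)
  rw [Category.comp_id] at h
  exact h.flip

omit [GrpObj C] [IsMonHom i] in
theorem isPullback_q23 : IsPullback (fst (Y ⊗ C) C) (q23 i) (act i) (fst Y C) := by
  refine ⟨⟨?_⟩, ⟨PullbackCone.IsLimit.mk _ (fun t => lift t.fst (t.snd ≫ snd _ _)) ?_ ?_ ?_⟩⟩
  · rw [q23, lift_fst]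
  · intro t
    rw [lift_fst]
  · intro t
    rw [q23, comp_lift, lift_fst_assoc, lift_snd, t.condition]
    ext1 <;> simp
  · intro t m hm1 hm2
    ext1
    · rw [lift_fst, hm1]
    · rw [lift_snd, ← hm2, q23, Category.assoc, lift_snd]

omit [GrpObj C] [IsMonHom i] in
/-- the triple product -/
theorem isPullback_q1 (hk : IsPullback i (toUnit C) q η[Y1]) :
    IsPullback (fst (Y ⊗ C) C ≫ fst Y C) (q23 i) q (fst Y C ≫ q) :=
  (isPullback_q23 (i := i)).paste_horiz (isPullback_act hk)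

lemma q13_act : q13 C Y ≫ act i = q23 i ≫ act i := by
  rw [comp_act, comp_act, q13, q23, lift_fst, lift_fst, lift_snd_assoc, lift_snd_assoc, MonObj.mul_comp,
    comp_act, ← _root_.mul_assoc]
  simp only [Category.assoc]

end Cat

section Sch

variable {S : Scheme.{u}} {C Y Y1 : Over S}

/-- an open of `Y1` as an object over `S` -/
noncomputable abbrev Uo (W : Y1.left.Opens) : Over S := Over.mk (W.ι ≫ Y1.hom)

/-- its inclusion -/
noncomputable abbrev uo (W : Y1.left.Opens) : Uo W ⟶ Y1 := Over.homMk W.ι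

/-- the preimage of an open of `Y1` -/
noncomputable abbrev Po (q : Y ⟶ Y1) (W : Y1.left.Opens) : Over S := Over.mk ((q.left ⁻¹ᵁ W).ι ≫ Y.hom)

/-- its inclusion -/
noncomputable abbrev po (q : Y ⟶ Y1) (W : Y1.left.Opens) : Po q W ⟶ Y := Over.homMk (q.left ⁻¹ᵁ W).ι

/-- the restriction of `q` -/
noncomputable abbrev qo (q : Y ⟶ Y1) (W : Y1.left.Opens) : Po q W ⟶ Uo W :=
  Over.homMk (q.left ∣_ W) (by
    change (q.left ∣_ W) ≫ W.ι ≫ Y1.hom = (q.left ⁻¹ᵁ W).ι ≫ Y.hom
    rw [← Category.assoc, morphismRestrict_ι, Category.assoc, Over.w])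

lemma qo_uo (q : Y ⟶ Y1) (W : Y1.left.Opens) : qo q W ≫ uo W = po q W ≫ q := by
  ext1
  exact morphismRestrict_ι q.left W

variable [GrpObj C] [GrpObj Y] [GrpObj Y1] {i : C ⟶ Y} [IsMonHom i] {q : Y ⟶ Y1} [IsMonHom q]

omit [GrpObj C] [IsMonHom i] in
/-- The scheme-level pullback square. -/
theorem isPullback_left (hk : AlgGrp.IsKernel i q) :
    IsPullback (fst Y C).left (act i).left q.left q.left :=
  (isPullback_act hk).map (Over.forget S)

omit [GrpObj C] [IsMonHom i] in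
theorem isAffineHom_quot (hk : AlgGrp.IsKernel i q) [IsAffineHom C.hom] [Flat q.left] [Surjective q.left]
    [QuasiCompact q.left] : IsAffineHom q.left := by
  have h1 : IsAffineHom (fst Y C).left :=
    MorphismProperty.pullback_fst (P := @IsAffineHom) Y.hom C.hom ‹_›
  exact MorphismProperty.of_isPullback_of_descendsAlong (P := @IsAffineHom)
    (Q := @Surjective ⊓ @Flat ⊓ @QuasiCompact) (isPullback_left hk) ⟨⟨‹_›, ‹_›⟩, ‹_›⟩ h1

/-- Descent along a faithfully flat quasi-compact morphism in `Over S`. -/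
theorem exists_desc {X Y Z : Over S} (q : X ⟶ Y) [QuasiCompact q.left]
    [Surjective q.left] [Flat q.left] (j : X ⟶ Z)
    (h : ∀ (T : Over S) (a b : T ⟶ X), a ≫ q = b ≫ q → a ≫ j = b ≫ j) :
    ∃ j' : Y ⟶ Z, q ≫ j' = j := by
  have hc : ∀ {T : Scheme.{u}} (g₁ g₂ : T ⟶ X.left), g₁ ≫ q.left = g₂ ≫ q.left →
      g₁ ≫ j.left = g₂ ≫ j.left := by
    intro T g₁ g₂ hg
    have hw : g₁ ≫ X.hom = g₂ ≫ X.hom := by
      rw [← Over.w q, ← Category.assoc, hg, Category.assoc]
    let a : Over.mk (g₁ ≫ X.hom) ⟶ X := Over.homMk g₁ rfl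
    let b : Over.mk (g₁ ≫ X.hom) ⟶ X := Over.homMk g₂ hw.symm
    have hab : a ≫ q = b ≫ q := by ext1; exact hg
    exact congrArg CommaMorphism.left (h _ a b hab)
  have he := EffectiveEpi.fac q.left j.left hc
  refine ⟨Over.homMk (EffectiveEpi.desc q.left j.left hc) ?_, ?_⟩
  · have : Epi q.left := inferInstance
    rw [← cancel_epi q.left, ← Category.assoc, he, Over.w, Over.w]
  · ext1
    exact he

/-- **Descent of a section.** -/
theorem exists_sec_of_invariant (hk : AlgGrp.IsKernel i q) [Flat q.left] [Surjective q.left] [QuasiCompact q.left]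
    (W : Y1.left.Opens) (M : Po q W ⟶ C)
    (hM : ∀ (T : Over S) (a b : T ⟶ Po q W) (z : T ⟶ Y ⊗ C), z ≫ fst Y C = a ≫ po q W →
      z ≫ act i = b ≫ po q W → a ≫ M = (z ≫ snd Y C) * (b ≫ M)) : ∃ s : Uo W ⟶ Y, s ≫ q = uo W := by
  have hiq : ∀ {T : Over S} (c : T ⟶ C), c ≫ i ≫ q = 1 := by
    intro T c
    rw [hk.w, Hom.one_def, ← Category.assoc, comp_toUnit]
  have hf : Flat (qo q W).left := MorphismProperty.of_isPullback (P := @Flat) (isPullback_morphismRestrict q.left W).flip ‹_›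
  have hs : Surjective (qo q W).left :=
    MorphismProperty.of_isPullback (P := @Surjective) (isPullback_morphismRestrict q.left W).flip ‹_›
  have hc : QuasiCompact (qo q W).left :=
    MorphismProperty.of_isPullback (P := @QuasiCompact) (isPullback_morphismRestrict q.left W).flip ‹_›
  obtain ⟨s, hs'⟩ := exists_desc (qo q W) (po q W * (M ≫ i)) (fun T a b hab => by
    have h1 : (a ≫ po q W) ≫ q = (b ≫ po q W) ≫ q := by
      rw [Category.assoc, Category.assoc, ← qo_uo, ← Category.assoc, hab, Category.assoc]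
    let z := (isPullback_act hk).lift (a ≫ po q W) (b ≫ po q W) h1
    have hz1 : z ≫ fst Y C = a ≫ po q W := (isPullback_act hk).lift_fst _ _ _
    have hz2 : z ≫ act i = b ≫ po q W := (isPullback_act hk).lift_snd _ _ _
    have h2 := hM T a b z hz1 hz2
    rw [comp_mul, comp_mul, ← hz2, comp_act, hz1, ← Category.assoc a M, h2, MonObj.mul_comp, _root_.mul_assoc]
    simp only [Category.assoc])
  refine ⟨s, ?_⟩
  have hepi : Epi (qo q W).left := inferInstance
  have hepi' : Epi (qo q W) := Over.epi_of_epi_left _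
  rw [← cancel_epi (qo q W), ← Category.assoc, hs', MonObj.mul_comp, Category.assoc, hiq, _root_.mul_one, qo_uo]

end Sch

end Groth.Agent.Sga7.H783.Tors
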